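import Groth.Agent.NeronExtLib.BaseChange
import Mathlib

/-! The mapping property relative to an open for objects with a torsor structure. -/

set_option autoImplicit false
universe u

open CategoryTheory CategoryTheory.Limits AlgebraicGeometry MonoidalCategory CartesianMonoidalCategory

namespace NeronTorsLib

variable {S : Scheme.{u}} (j : S.Opens)

/-- The restriction of an `S`-scheme to `j`, as an `S`-scheme. -/
noncomputable def res (Z : Over S) : Over S := Over.mk (pullback.fst Z.hom j.ι ≫ Z.hom)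

/-- The inclusion of the restriction. -/
noncomputable def incl (Z : Over S) : res j Z ⟶ Z := Over.homMk (pullback.fst Z.hom j.ι) rfl

/-- Functoriality of the restriction. -/
noncomputable def resMap {Z' Z : Over S} (p : Z' ⟶ Z) : res j Z' ⟶ res j Z :=
  Over.homMk ((Over.pullback j.ι).map p).left (by
    show ((Over.pullback j.ι).map p).left ≫ pullback.fst Z.hom j.ι ≫ Z.hom = pullback.fst Z'.hom j.ι ≫ Z'.hom
    rw [← Category.assoc, NeronExtLib.map_left_fst, Category.assoc, Over.w p])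

@[reassoc]
theorem resMap_incl {Z' Z : Over S} (p : Z' ⟶ Z) : resMap j p ≫ incl j Z = incl j Z' ≫ p :=
  Over.OverMorphism.ext (NeronExtLib.map_left_fst j.ι p)

@[reassoc]
theorem resMap_comp {Z'' Z' Z : Over S} (q : Z'' ⟶ Z') (p : Z' ⟶ Z) :
    resMap j q ≫ resMap j p = resMap j (q ≫ p) :=
  Over.OverMorphism.ext (by
    show ((Over.pullback j.ι).map q).left ≫ ((Over.pullback j.ι).map p).left = _
    rw [← Over.comp_left, ← Functor.map_comp]; rfl)

theorem resMap_id (Z : Over S) : resMap j (𝟙 Z) = 𝟙 _ :=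
  Over.OverMorphism.ext (by
    show ((Over.pullback j.ι).map (𝟙 Z)).left = _
    rw [CategoryTheory.Functor.map_id]; rfl)

/-- Uniqueness of extensions of morphisms into `X`. -/
def Sep (X : Over S) : Prop :=
  ∀ Z : Over S, Smooth Z.hom → ∀ f₁ f₂ : Z ⟶ X, incl j Z ≫ f₁ = incl j Z ≫ f₂ → f₁ = f₂

/-- Existence of extensions of morphisms into `X`. -/
def Ext (X : Over S) : Prop :=
  ∀ Z : Over S, Smooth Z.hom → ∀ a : res j Z ⟶ X, ∃ f : Z ⟶ X, incl j Z ≫ f = a

theorem bijective_iff (X : Over S) :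
    (∀ Z : Over S, Smooth Z.hom → Function.Bijective (fun g : Z ⟶ X => (Over.pullback j.ι).map g)) ↔
      Sep j X ∧ Ext j X := by
  refine ⟨fun h => ⟨fun Z hZ f₁ f₂ h12 => ?_, fun Z hZ a => ?_⟩, fun h Z hZ => ⟨?_, ?_⟩⟩
  · exact (NeronExtLib.injective_iff j.ι Z X).1 (h Z hZ).1 f₁ f₂ (congrArg CommaMorphism.left h12)
  · obtain ⟨f, hf⟩ := (NeronExtLib.surjective_iff j.ι Z X).1 (h Z hZ).2 a.left (Over.w a)
    exact ⟨f, Over.OverMorphism.ext hf⟩
  · exact (NeronExtLib.injective_iff j.ι Z X).2 fun f₁ f₂ h12 => h.1 Z hZ f₁ f₂ (Over.OverMorphism.ext h12)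
  · refine (NeronExtLib.surjective_iff j.ι Z X).2 fun a ha => ?_
    obtain ⟨f, hf⟩ := h.2 Z hZ (Over.homMk a ha)
    exact ⟨f, congrArg CommaMorphism.left hf⟩

theorem smooth_tensor (A B : Over S) [Smooth A.hom] [Smooth B.hom] : Smooth (A ⊗ B).hom := by
  show Smooth (pullback.fst A.hom B.hom ≫ A.hom)
  infer_instance

/-- Extensions descend along `Z ⊗ N ⟶ Z` for `N` smooth and surjective over `S`. -/
theorem descend {X N : Over S} [Smooth N.hom] [Surjective N.hom] (hX : Sep j X) {Z : Over S} [Smooth Z.hom]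
    (a : res j Z ⟶ X) (g' : Z ⊗ N ⟶ X) (hg : incl j (Z ⊗ N) ≫ g' = resMap j (fst Z N) ≫ a) :
    ∃ g : Z ⟶ X, incl j Z ≫ g = a := by
  let p := (fst Z N).left
  haveI : Smooth p := inferInstanceAs (Smooth (pullback.fst Z.hom N.hom))
  haveI : Surjective p := inferInstanceAs (Surjective (pullback.fst Z.hom N.hom))
  let Z'' := Z ⊗ (N ⊗ N)
  haveI hZ'' : Smooth Z''.hom := by haveI := smooth_tensor N N; exact smooth_tensor Z (N ⊗ N)
  have key : (Z ◁ fst N N) ≫ g' = (Z ◁ snd N N) ≫ g' := by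
    refine hX Z'' hZ'' _ _ ?_
    rw [← resMap_incl_assoc, ← resMap_incl_assoc, hg, resMap_comp_assoc, resMap_comp_assoc, whiskerLeft_fst,
      whiskerLeft_fst]
  have hdesc : ∀ {W : Scheme.{u}} (w₁ w₂ : W ⟶ (Z ⊗ N).left), w₁ ≫ p = w₂ ≫ p → w₁ ≫ g'.left = w₂ ≫ g'.left := by
    intro W w₁ w₂ h
    let W' : Over S := Over.mk (w₁ ≫ (Z ⊗ N).hom)
    let u₁ : W' ⟶ Z ⊗ N := Over.homMk w₁
    let u₂ : W' ⟶ Z ⊗ N := Over.homMk w₂ (by
      show w₂ ≫ (Z ⊗ N).hom = w₁ ≫ (Z ⊗ N).hom
      rw [← Over.w (fst Z N), ← Category.assoc, ← Category.assoc]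
      exact congrArg (· ≫ Z.hom) h.symm)
    have h' : u₁ ≫ fst Z N = u₂ ≫ fst Z N := Over.OverMorphism.ext h
    let l := lift (u₁ ≫ fst Z N) (lift (u₁ ≫ snd Z N) (u₂ ≫ snd Z N))
    have e₁ : l ≫ (Z ◁ fst N N) = u₁ := by
      apply CartesianMonoidalCategory.hom_ext <;> simp [l]
    have e₂ : l ≫ (Z ◁ snd N N) = u₂ := by
      apply CartesianMonoidalCategory.hom_ext <;> simp [l, h']
    show (u₁ ≫ g').left = (u₂ ≫ g').left
    rw [← e₁, ← e₂, Category.assoc, Category.assoc, key]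
  haveI : EffectiveEpi p := inferInstance
  let g₀ := EffectiveEpi.desc p g'.left hdesc
  have hg₀ : p ≫ g₀ = g'.left := EffectiveEpi.fac _ _ _
  let g : Z ⟶ X := Over.homMk g₀ (by
    rw [← cancel_epi p, reassoc_of% hg₀]
    exact (Over.w g').trans (Over.w (fst Z N)).symm)
  have hpg : fst Z N ≫ g = g' := Over.OverMorphism.ext hg₀
  refine ⟨g, ?_⟩
  have sq : IsPullback (pullback.fst (Z ⊗ N).hom j.ι) (resMap j (fst Z N)).left p (pullback.fst Z.hom j.ι) := by
    refine IsPullback.of_bot ?_ (NeronExtLib.map_left_fst j.ι (fst Z N)).symm (IsPullback.of_hasPullback Z.hom j.ι)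
    convert IsPullback.of_hasPullback (Z ⊗ N).hom j.ι using 1
    · exact Over.w ((Over.pullback j.ι).map (fst Z N))
    · exact Over.w (fst Z N)
  haveI : Smooth (resMap j (fst Z N)).left := MorphismProperty.of_isPullback sq inferInstance
  haveI : Surjective (resMap j (fst Z N)).left := MorphismProperty.of_isPullback sq inferInstance
  refine Over.OverMorphism.ext ((cancel_epi (resMap j (fst Z N)).left).1 ?_)
  show (resMap j (fst Z N) ≫ incl j Z ≫ g).left = (resMap j (fst Z N) ≫ a).left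
  rw [resMap_incl_assoc, hpg, hg]

end NeronTorsLib
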